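import Cfsg.Agent.Lib.Chev.Bruhat
import Cfsg.Agent.Lib.Chev.Inst

/-!
The centralizer in a Chevalley group of a regular torus element lies in the torus.
-/

set_option autoImplicit false
set_option linter.dupNamespace false
set_option linter.unusedSectionVars false

namespace CfsgLib.G2SL3

open Cfsg.Lie Matrix CfsgLib.Chev CfsgLib.Chev.Chev

variable {D : ChevalleyDatum} (Φ : Chev D) {F : Type*} [Field F]

theorem torus_prodL (c : Fin D.rank → Fˣ) (L : List (Fin D.nroots)) (v : Fin D.nroots → F) :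
    Φ.toAlg.torus c * Φ.prodL L v =
      Φ.prodL L (fun r => (Φ.toSys.chi c r : F) * v r) * Φ.toAlg.torus c := by
  induction L with
  | nil => simp [Chev.prodL]
  | cons a L ih =>
    simp only [Chev.prodL, List.map_cons, List.prod_cons] at ih ⊢
    rw [← mul_assoc, Φ.toAlg.torus_xg, mul_assoc, ih, mul_assoc]

/-- An element of a root subgroup product fixed by a regular torus element is trivial. -/
theorem eq_one_of_regular {c : Fin D.rank → Fˣ} (hc : ∀ r, Φ.toSys.chi c r ≠ 1)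
    {S : Fin D.nroots → Prop} (hpos : ∀ r, S r → Φ.toTables.Pos r) (hcl : Φ.Closed S)
    {u : GL D.Idx F} (hu : u ∈ Φ.US F S) (h : Commute (Φ.toAlg.torus c) u) : u = 1 := by
  classical
  obtain ⟨v, rfl⟩ := (Φ.mem_US_iff hpos hcl).1 hu
  have e := h.eq
  rw [torus_prodL] at e
  have e' := Φ.prodL_injective (pairwise_rootList S) (fun r hr => hpos r (mem_rootList.mp hr))
    (mul_right_cancel e)
  refine List.prod_eq_one fun g hg => ?_
  obtain ⟨r, hr, rfl⟩ := List.mem_map.mp hg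
  have hv : v r = 0 := by
    have e2 : ((Φ.toSys.chi c r : F) - 1) * v r = 0 := by rw [sub_mul, one_mul, e' r hr, sub_self]
    exact (mul_eq_zero.1 e2).resolve_left (sub_ne_zero.2 fun h1 => hc r (Units.ext h1))
  rw [hv, Φ.toAlg.xg_zero]

/-- The centralizer of a regular torus element lies in the torus. -/
theorem mem_H_of_commute_regular {c : Fin D.rank → Fˣ} (hc : ∀ r, Φ.toSys.chi c r ≠ 1)
    (hinj : Function.Injective (Φ.toSys.chi c)) (hH : Φ.toAlg.torus c ∈ D.diagonalSubgroup F)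
    {g : GL D.Idx F} (hg : g ∈ D.group F) (h : Commute (Φ.toAlg.torus c) g) :
    g ∈ D.diagonalSubgroup F := by
  set t := Φ.toAlg.torus c with ht
  obtain ⟨b, hb, n, hn, π, hπ, hm, u, hu, rfl⟩ := Φ.exists_normal_form hg
  have h2 : t * n * t⁻¹ * n⁻¹ ∈ D.diagonalSubgroup F := by
    rw [show t * n * t⁻¹ * n⁻¹ = t * (n * t⁻¹ * n⁻¹) by group]
    exact mul_mem hH (Φ.H_conj_mem hn (inv_mem hH))
  have htb : t * b * t⁻¹ * (t * n * t⁻¹ * n⁻¹) ∈ D.borelSubgroup F :=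
    mul_mem (mul_mem (mul_mem (H_le_B hH) hb) (inv_mem (H_le_B hH))) (H_le_B h2)
  have htu : t * u * t⁻¹ ∈ Φ.Uneg F π :=
    (Subgroup.mem_normalizer_iff.1 (Φ.H_le_normalizer_US _ hH) u).1 hu
  have e : t * b * t⁻¹ * (t * n * t⁻¹ * n⁻¹) * n * (t * u * t⁻¹) = b * n * u := by
    calc _ = t * (b * n * u) * t⁻¹ := by group
      _ = _ := by rw [h.eq, mul_inv_cancel_right]
  obtain ⟨e1, e2⟩ := Φ.normal_form_unique hm htb hb htu hu e
  have hu1 : u = 1 := eq_one_of_regular Φ hc (fun r hr => hr.1) (Φ.closed_pos_neg hπ) hu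
    (mul_inv_eq_iff_eq_mul.1 e2)
  subst hu1
  obtain ⟨v, hv, x, hx, rfl⟩ := Φ.mem_B_iff.1 hb
  have hv' : t * v * t⁻¹ ∈ D.posUnipotent F :=
    (Subgroup.mem_normalizer_iff.1 (Φ.H_le_normalizer_U hH) v).1 hv
  have htx : t * x * t⁻¹ = x := by rw [(Φ.H_comm hH hx).eq, mul_inv_cancel_right]
  have e3 : t * v * t⁻¹ * (x * (t * n * t⁻¹ * n⁻¹)) = v * x := by
    conv_rhs => rw [← e1]
    calc _ = t * v * t⁻¹ * ((t * x * t⁻¹) * (t * n * t⁻¹ * n⁻¹)) := by rw [htx]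
      _ = _ := by group
  have hUN : v⁻¹ * (t * v * t⁻¹) = x * (x * (t * n * t⁻¹ * n⁻¹))⁻¹ := by
    calc v⁻¹ * (t * v * t⁻¹)
        = v⁻¹ * (t * v * t⁻¹ * (x * (t * n * t⁻¹ * n⁻¹))) * (x * (t * n * t⁻¹ * n⁻¹))⁻¹ := by group
      _ = _ := by rw [e3]; group
  have hv1 := Φ.eq_one_of_mem_U_of_mem_N (mul_mem (inv_mem hv) hv')
    (hUN ▸ H_le_N (mul_mem hx (inv_mem (mul_mem hx h2))))
  have hvc : t * v * t⁻¹ = v := (inv_mul_eq_one.1 hv1).symm
  have hv0 : v = 1 := by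
    rw [Φ.posUnipotent_eq_US] at hv
    exact eq_one_of_regular Φ hc (fun r hr => hr) Φ.closed_pos hv (mul_inv_eq_iff_eq_mul.1 hvc)
  rw [hvc] at e3
  have hn1 : t * n * t⁻¹ * n⁻¹ = 1 := by simpa using mul_left_cancel e3
  have htn : t * n * t⁻¹ = n := mul_inv_eq_one.1 hn1
  have hπ1 : π = 1 := Equiv.ext fun r => by
    obtain ⟨a, ha, ha1, -⟩ := hm.1 r
    refine hinj (Units.ext ?_)
    have e4 : t * Φ.toAlg.xg (π r) a * t⁻¹ = Φ.toAlg.xg (π r) (a * (Φ.toSys.chi c r : F)) := by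
      have h1 := ha1 (1 : F)
      rw [mul_one] at h1
      calc t * Φ.toAlg.xg (π r) a * t⁻¹ = t * (n * Φ.toAlg.xg r (1 : F) * n⁻¹) * t⁻¹ := by rw [h1]
        _ = (t * n * t⁻¹) * (t * Φ.toAlg.xg r (1 : F) * t⁻¹) * (t * n * t⁻¹)⁻¹ := by group
        _ = _ := by rw [htn, Φ.toAlg.torus_xg, mul_inv_cancel_right, mul_one, ha1]
    rw [Φ.toAlg.torus_xg, mul_inv_cancel_right] at e4
    exact mul_left_cancel₀ ha (by rw [mul_comm]; exact Φ.toAlg.xg_injective _ e4)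
  subst hπ1
  rw [hv0, one_mul, mul_one]
  exact mul_mem hx (Φ.mem_H_of_mono_one hn hm)

theorem cartan_table : ∀ i k : Fin 2,
    Cfsg.Lie.chevG2.cartan i.val (Cfsg.Lie.chevG2.simple k.val) = ![![(2 : ℤ), -3], ![-1, 2]] i k := by
  decide

/-- In type G2 every torus element lies in the torus of the group. -/
theorem torus_mem_H_G2 (Φ : Chev Cfsg.Lie.chevG2) {F : Type*} [Field F] (c : Fin 2 → Fˣ) :
    Φ.toAlg.torus c ∈ Cfsg.Lie.chevG2.diagonalSubgroup F := by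
  rw [Φ.diagonalSubgroup_eq, MonoidHom.mem_range]
  refine ⟨(![c 0 ^ 2 * c 1, c 0 ^ 3 * c 1 ^ 2] : Fin 2 → Fˣ), ?_⟩
  refine (MonoidHom.comp_apply _ _ _).trans (congrArg Φ.toAlg.torus ?_)
  funext j
  have hA : ∀ i k : Fin 2, Φ.A i (Φ.p k) = ![![(2 : ℤ), -3], ![-1, 2]] i k := fun i k => by
    have h1 := cartan_table i k
    have h2 := Φ.cartan_val i (Φ.p k)
    have h3 := Φ.simple_val k
    rw [← h2, ← h3]
    exact h1
  show ∏ k, (![c 0 ^ 2 * c 1, c 0 ^ 3 * c 1 ^ 2] : Fin 2 → Fˣ) k ^ Φ.A k (Φ.p j) = c j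
  refine (Fin.prod_univ_two _).trans ?_
  have h0 := hA 0 j
  have h1 := hA 1 j
  erw [h0, h1]
  revert j
  show ∀ j : Fin 2, _
  intro j
  fin_cases j <;>
  · intro _ _
    apply Units.ext
    simp [pow_succ, Units.val_zpow_eq_zpow_val]
    field_simp

end CfsgLib.G2SL3
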