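import Cfsg.Agent.Lib.G2SL3.Rep
import Cfsg.Agent.Lib.G2SL3.RegTorus

/-!
Properties of the representation of `SL₃`: it is faithful, natural in the field, and maps the diagonal
matrices to torus elements.
-/

set_option autoImplicit false

namespace CfsgLib.G2SL3

open Matrix CfsgLib.Chev

variable {F : Type*} [Field F]

theorem eps_injective : Function.Injective eps := by decide

theorem rep_entry (g : Matrix.SpecialLinearGroup (Fin 3) F) (x y : DG.Idx) :
    (rep F g).1 x y = act g.1 (g⁻¹).1 (Pi.single y 1) x := by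
  rw [rep_apply, LinearMap.toMatrix'_apply]

theorem getV_single (b : Fin 3) : getV (Pi.single (Sum.inr (eps b)) (1 : F) : DG.Idx → F) = Pi.single b 1 := by
  funext a
  rcases eq_or_ne a b with rfl | h
  · simp [getV]
  · simp [getV, h, eps_injective.ne h]

theorem put_eps (V W : Fin 3 → F) (M : Matrix (Fin 3) (Fin 3) F) (a : Fin 3) :
    put V W M (Sum.inr (eps a)) = V a :=
  congrFun (getV_put V W M) a

/-- The natural module sits inside the representation. -/
theorem rep_eps (g : Matrix.SpecialLinearGroup (Fin 3) F) (a b : Fin 3) :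
    (rep F g).1 (Sum.inr (eps a)) (Sum.inr (eps b)) = g.1 a b := by
  rw [rep_entry]
  show put _ _ _ (Sum.inr (eps a)) = _
  rw [put_eps, getV_single, Matrix.mulVec_single_one]
  rfl

theorem rep_injective : Function.Injective (rep F) := fun g g' h =>
  Subtype.ext (Matrix.ext fun a b => by rw [← rep_eps g, ← rep_eps g', h])

section Natural

variable {K : Type*} [Field K] (f : F →+* K)

theorem put_natural (V W : Fin 3 → F) (M : Matrix (Fin 3) (Fin 3) F) :
    put (f ∘ V) (f ∘ W) (M.map f) = f ∘ put V W M := by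
  funext x
  rcases x with i | r
  · simp only [put, Function.comp_apply, Sum.elim_inl, Matrix.map_apply]
    split <;> simp
  · revert r
    show ∀ r : Fin 12, _
    intro r
    fin_cases r <;> rfl

theorem getM_natural (v : DG.Idx → F) : getM (f ∘ v) = (getM v).map f := by
  ext a b
  fin_cases a <;> fin_cases b <;> simp [getM, map_ofNat]

theorem act_natural (g g' : Matrix (Fin 3) (Fin 3) F) (v : DG.Idx → F) :
    act (g.map f) (g'.map f) (f ∘ v) = f ∘ act g g' v := by
  have e1 : getV (f ∘ v) = f ∘ getV v := rfl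
  have e2 : getW (f ∘ v) = f ∘ getW v := rfl
  show put _ _ _ = f ∘ put _ _ _
  rw [← put_natural f, e1, e2, getM_natural, Matrix.map_mul, Matrix.map_mul, ← Matrix.transpose_map]
  congr 1
  · funext a; exact (RingHom.map_mulVec f g (getV v) a).symm
  · funext a; exact (RingHom.map_mulVec f g'ᵀ (getW v) a).symm

/-- The representation commutes with field homomorphisms. -/
theorem rep_map (g : Matrix.SpecialLinearGroup (Fin 3) F) :
    Matrix.GeneralLinearGroup.map f (rep F g) = rep K (Matrix.SpecialLinearGroup.map f g) := by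
  refine Units.ext (Matrix.ext fun x y => ?_)
  show f ((rep F g).1 x y) = _
  rw [rep_entry, rep_entry, ← map_inv]
  show f (act g.1 (g⁻¹).1 (Pi.single y 1) x) = act (g.1.map f) ((g⁻¹).1.map f) (Pi.single y 1) x
  have e : (Pi.single y (1 : K) : DG.Idx → K) = f ∘ Pi.single y (1 : F) := by
    funext z
    rcases eq_or_ne z y with rfl | h
    · simp
    · simp [h]
  rw [e, act_natural]
  rfl

end Natural

/-- The roots on the two fundamental roots. -/
def coords : Fin 12 → Fin 2 → ℤ :=
  ![![-3, -2], ![-3, -1], ![-2, -1], ![-1, -1], ![-1, 0], ![0, -1], ![0, 1], ![1, 0], ![1, 1], ![2, 1], ![3, 1], ![3, 2]]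

theorem cartan_roots : ∀ r : Fin 12,
    2 * Cfsg.Lie.chevG2.cartan 0 r.val + 3 * Cfsg.Lie.chevG2.cartan 1 r.val = coords r 0 ∧
      Cfsg.Lie.chevG2.cartan 0 r.val + 2 * Cfsg.Lie.chevG2.cartan 1 r.val = coords r 1 := by
  decide

theorem cartan_simple : ∀ i k : Fin 2,
    Cfsg.Lie.chevG2.cartan i.val (Cfsg.Lie.chevG2.simple k.val) = ![![(2 : ℤ), -3], ![-1, 2]] i k := by
  decide

theorem chi_eq (Φ : Chev Cfsg.Lie.chevG2) {R : Type*} [CommRing R] (c : Fin 2 → Rˣ) (r : Fin 12) :
    Φ.toSys.chi c r = c 0 ^ coords r 0 * c 1 ^ coords r 1 := by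
  have hlin : ∀ i : Fin 2, Cfsg.Lie.chevG2.cartan i.val r.val =
      ![![(2 : ℤ), -3], ![-1, 2]] i 0 * Φ.V r (0 : Fin 2) + ![![(2 : ℤ), -3], ![-1, 2]] i 1 * Φ.V r (1 : Fin 2) := by
    intro i
    have hA : ∀ k : Fin 2, Φ.A i (Φ.p k) = ![![(2 : ℤ), -3], ![-1, 2]] i k := fun k => by
      have h1 := cartan_simple i k
      have h2 := Φ.cartan_val i (Φ.p k)
      have h3 := Φ.simple_val k
      rw [← h2, ← h3]
      exact h1
    refine (Φ.cartan_val i r).trans ((Φ.A_lin i r).trans ?_)
    refine (Fin.sum_univ_two _).trans ?_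
    erw [hA 0, hA 1]
    ring
  have h0 := hlin 0
  have h1 := hlin 1
  obtain ⟨c0, c1⟩ := cartan_roots r
  simp only [Fin.val_zero, Fin.val_one, Matrix.cons_val_zero, Matrix.cons_val_one] at h0 h1
  have e0 : Φ.V r (0 : Fin 2) = coords r 0 := by omega
  have e1 : Φ.V r (1 : Fin 2) = coords r 1 := by omega
  refine (Fin.prod_univ_two _).trans ?_
  erw [e0, e1]

/-- The root part of `put`. -/
def putR (V W : Fin 3 → F) (M : Matrix (Fin 3) (Fin 3) F) : Fin 12 → F :=
  ![M 2 1, M 2 0, V 2, W 1, W 0, M 0 1, M 1 0, V 0, V 1, W 2, M 0 2, M 1 2]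

theorem put_inr (V W : Fin 3 → F) (M : Matrix (Fin 3) (Fin 3) F) (r : Fin 12) :
    put V W M (Sum.inr r) = putR V W M r := rfl

/-- Diagonal matrices go to torus elements. -/
theorem rep_diag (Φ : Chev Cfsg.Lie.chevG2) (g : Matrix.SpecialLinearGroup (Fin 3) F) (d : Fin 3 → Fˣ)
    (hg : g.1 = Matrix.diagonal fun i => (d i : F)) (hd : d 0 * d 1 * d 2 = 1) :
    rep F g = Φ.toAlg.torus (![d 0, (d 0)⁻¹ * d 1] : Fin 2 → Fˣ) := by
  have hg' : (g⁻¹).1 = Matrix.diagonal fun i => (((d i)⁻¹ : Fˣ) : F) := by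
    have h1 : g.1 * (Matrix.diagonal fun i => (((d i)⁻¹ : Fˣ) : F)) = 1 := by
      rw [hg, Matrix.diagonal_mul_diagonal, ← Matrix.diagonal_one]
      congr 1
      funext i
      simp
    calc (g⁻¹).1 = (g⁻¹).1 * (g.1 * (Matrix.diagonal fun i => (((d i)⁻¹ : Fˣ) : F))) := by
          rw [h1, Matrix.mul_one]
      _ = _ := by
          rw [← Matrix.mul_assoc, ← Matrix.SpecialLinearGroup.coe_mul, inv_mul_cancel,
            Matrix.SpecialLinearGroup.coe_one, Matrix.one_mul]
  have h2 : d 2 = (d 0 * d 1)⁻¹ := (inv_eq_of_mul_eq_one_right hd).symm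
  refine Units.ext (Matrix.ext fun x y => ?_)
  rw [rep_entry, hg, hg']
  refine Eq.trans ?_ (congrFun (congrFun (Alg.torus_val Φ.toAlg _).symm x) y)
  unfold Sys.torusMat
  have key : ∀ (v : DG.Idx → F), act (Matrix.diagonal fun i => (d i : F))
      (Matrix.diagonal fun i => (((d i)⁻¹ : Fˣ) : F)) v x =
        (Φ.toSys.chiIdx (![d 0, (d 0)⁻¹ * d 1] : Fin 2 → Fˣ) x : F) * v x := by
    intro v
    have hv := congrFun (put_get v) x
    rcases x with i | r
    · show _ = ((1 : Fˣ) : F) * v (Sum.inl i)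
      rw [Units.val_one, one_mul, ← hv]
      simp [act, put, getM, Matrix.mulVec_diagonal, Matrix.diagonal_mul, Matrix.mul_diagonal]
      split <;> (field_simp; try ring)
    · revert r
      show ∀ r : Fin 12, _
      intro r hv
      show put ((Matrix.diagonal fun i => (d i : F)) *ᵥ getV v)
          ((Matrix.diagonal fun i => (((d i)⁻¹ : Fˣ) : F))ᵀ *ᵥ getW v)
          ((Matrix.diagonal fun i => (d i : F)) * getM v *
            (Matrix.diagonal fun i => (((d i)⁻¹ : Fˣ) : F))) (Sum.inr r) =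
        ((Φ.toSys.chi (![d 0, (d 0)⁻¹ * d 1] : Fin 2 → Fˣ) r : Fˣ) : F) * v (Sum.inr r)
      erw [← hv, put_inr, put_inr, chi_eq]
      fin_cases r <;>
        (simp [putR, getV, getW, getM, coords, Matrix.mulVec_diagonal, Matrix.diagonal_mul,
          Matrix.mul_diagonal, Matrix.diagonal_transpose, h2, Units.val_zpow_eq_zpow_val]
         try field_simp
         try simp)
  rw [key (Pi.single y 1), Matrix.diagonal_apply]
  rcases eq_or_ne x y with rfl | h
  · simp
  · simp [h]

end CfsgLib.G2SL3
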