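import Cfsg.Agent.Lib.G2SL3.Rep

/-! The transvection with indices 2, 1 goes to a root element. -/

set_option autoImplicit false

namespace CfsgLib.G2SL3

open Matrix

variable {F : Type*} [Field F]

set_option maxHeartbeats 4000000 in
set_option maxRecDepth 20000 in
theorem act_transvection_21 (t : F) (x y : DG.Idx) :
    act (1 + Matrix.single 2 1 t) (1 + Matrix.single 2 1 (-t)) (Pi.single y 1) x =
      DG.xMat F (lng 2 1) t x y := by
  rcases x with ⟨x, hx⟩ | ⟨x, hx⟩ <;> rcases y with ⟨y, hy⟩ | ⟨y, hy⟩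
  all_goals first | (have hx' : x < 2 := hx) | (have hx' : x < 12 := hx)
  all_goals first | (have hy' : y < 2 := hy) | (have hy' : y < 12 := hy)
  all_goals interval_cases x <;> interval_cases y
  all_goals simp only [xhh, xhr, xrh, xrr]
  all_goals
    simp [act, put, getV, getW, getM, lng, eps, neps, h0, h1, Matrix.mul_apply, Matrix.mulVec, dotProduct,
      Matrix.single, Fin.sum_univ_three, chain_eq, neg_eq, cor_eq, car_eq, Cfsg.Lie.ChevalleyDatum.chainCoeff,
      Cfsg.Lie.chevG2NegIdx, Cfsg.Lie.chevG2Coroot, Cfsg.Lie.chevG2CartanSR, Cfsg.Lie.chevG2Chain,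
      Cfsg.Lie.chevG2Chain0, Pi.single_apply]
  all_goals ring

end CfsgLib.G2SL3
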