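import Cfsg.Agent.Lib.G2SL3.Trans01
import Cfsg.Agent.Lib.G2SL3.Trans10
import Cfsg.Agent.Lib.G2SL3.Trans12
import Cfsg.Agent.Lib.G2SL3.Trans21
import Cfsg.Agent.Lib.G2SL3.Hom
import Cfsg.Agent.Lib.SLGen.SL3

/-!
The representation of `SL₃` takes values in the Chevalley group.
-/

set_option autoImplicit false

namespace CfsgLib.G2SL3

open Matrix CfsgLib.SLGen3 CfsgLib.PSLn

variable {F : Type*} [Field F]

theorem rep_xx_val (a b : Fin 3) (hab : a ≠ b) (t : F) (x y : DG.Idx) :
    (rep F (xx a b hab t)).1 x y =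
      act (1 + Matrix.single a b t) (1 + Matrix.single a b (-t)) (Pi.single y 1) x := by
  have h : (xx a b hab t)⁻¹ = xx a b hab (-t) := by
    refine inv_eq_of_mul_eq_one_right (Subtype.ext ?_)
    show (xx a b hab t).1 * (xx a b hab (-t)).1 = 1
    rw [coe_xx, coe_xx]
    simp [Matrix.mul_add, Matrix.add_mul, add_assoc, hab.symm, ← Matrix.single_add]
  rw [rep_entry, h, coe_xx, coe_xx]

theorem rep_xx_mem {a b : Fin 3} (hab : a ≠ b) (r : Fin DG.nroots) (t : F)
    (h : ∀ x y, act (1 + Matrix.single a b t) (1 + Matrix.single a b (-t)) (Pi.single y 1) x =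
      DG.xMat F r t x y) : rep F (xx a b hab t) ∈ DG.group F :=
  Subgroup.subset_closure ⟨r, t, Matrix.ext fun x y => (rep_xx_val a b hab t x y).trans (h x y)⟩

/-- The image of `SL₃` lies in the group. -/
theorem rep_mem_group (g : Matrix.SpecialLinearGroup (Fin 3) F) : rep F g ∈ DG.group F := by
  have h01 : ∀ t : F, rep F (x01 t) ∈ DG.group F :=
    fun t => rep_xx_mem _ _ t (act_transvection_01 t)
  have h10 : ∀ t : F, rep F (x10 t) ∈ DG.group F :=
    fun t => rep_xx_mem _ _ t (act_transvection_10 t)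
  have h12 : ∀ t : F, rep F (x12 t) ∈ DG.group F :=
    fun t => rep_xx_mem _ _ t (act_transvection_12 t)
  have h21 : ∀ t : F, rep F (x21 t) ∈ DG.group F :=
    fun t => rep_xx_mem _ _ t (act_transvection_21 t)
  have e02 : ∀ t : F, x02 t = x01 t * x12 1 * x01 (-t) * x12 (-1) := fun t => Subtype.ext (by
    show (x02 t).1 = (x01 t).1 * (x12 1).1 * (x01 (-t)).1 * (x12 (-1)).1
    rw [coe_x01, coe_x01, coe_x12, coe_x12, coe_x02]
    ext i j
    fin_cases i <;> fin_cases j <;> simp [Matrix.mul_apply, Fin.sum_univ_three])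
  have e20 : ∀ t : F, x20 t = x21 t * x10 1 * x21 (-t) * x10 (-1) := fun t => Subtype.ext (by
    show (x20 t).1 = (x21 t).1 * (x10 1).1 * (x21 (-t)).1 * (x10 (-1)).1
    rw [coe_x21, coe_x21, coe_x10, coe_x10, coe_x20]
    ext i j
    fin_cases i <;> fin_cases j <;> simp [Matrix.mul_apply, Fin.sum_univ_three])
  have h : (DG.group F).comap (rep F) = ⊤ := by
    refine eq_top3 (fun t => h01 t) (fun t => ?_) (fun t => h10 t) (fun t => h12 t) (fun t => ?_)
      (fun t => h21 t)
    · rw [e02]; exact mul_mem (mul_mem (mul_mem (h01 _) (h12 _)) (h01 _)) (h12 _)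
    · rw [e20]; exact mul_mem (mul_mem (mul_mem (h21 _) (h10 _)) (h21 _)) (h10 _)
  exact (Subgroup.eq_top_iff' _).1 h g

end CfsgLib.G2SL3
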