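import Mathlib

/-!
A Singer cycle of `SL₃(q)` of order `q² + q + 1`, diagonalised by a Galois-twisted matrix of determinant one over the cubic extension.
-/

set_option autoImplicit false

namespace CfsgLib.G2SL3

open Matrix Module

variable {F K : Type*} [Field F] [Field K] [Algebra F K]

/-- The matrix of conjugates of a basis. -/
def mooreMat (s : K →+* K) (b : Fin 3 → K) : Matrix (Fin 3) (Fin 3) K :=
  Matrix.of fun j i => s^[j.val] (b i)

/-- The cyclic permutation matrix. -/
def cyc3 (K : Type*) [Field K] : Matrix (Fin 3) (Fin 3) K :=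
  !![0, 1, 0; 0, 0, 1; 1, 0, 0]

theorem det_cyc3 : (cyc3 K).det = 1 := by
  rw [Matrix.det_fin_three]; simp [cyc3]

theorem moore_map (s : K →+* K) (hs : ∀ x, s (s (s x)) = x) (b : Fin 3 → K) :
    (mooreMat s b).map s = cyc3 K * mooreMat s b := by
  ext j i
  fin_cases j <;> simp [mooreMat, cyc3, Matrix.mul_apply, Fin.sum_univ_three, hs]

theorem moore_leftMul (s : K →+* K) (hF : ∀ a : F, s (algebraMap F K a) = algebraMap F K a)
    (b : Basis (Fin 3) F K) (x : K) :
    mooreMat s b * (Algebra.leftMulMatrix b x).map (algebraMap F K) =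
      Matrix.diagonal (fun j : Fin 3 => s^[j.val] x) * mooreMat s b := by
  ext j i
  have hit : ∀ n : ℕ, ∀ a : F, s^[n] (algebraMap F K a) = algebraMap F K a := by
    intro n a
    induction n with
    | zero => rfl
    | succ n ih => rw [Function.iterate_succ_apply', ih, hF]
  rw [Matrix.diagonal_mul, Matrix.mul_apply]
  simp only [mooreMat, Matrix.of_apply, Matrix.map_apply, Algebra.leftMulMatrix_eq_repr_mul]
  have e := congrArg (fun z => (s ^ j.val : K →+* K) z) (b.sum_repr (x * b i))
  simp only [map_sum, Algebra.smul_def, map_mul, RingHom.coe_pow] at e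
  simp only [hit] at e
  rw [← e]
  exact Finset.sum_congr rfl fun k _ => mul_comm _ _

theorem moore_det_ne (s : K →+* K) (hF : ∀ a : F, s (algebraMap F K a) = algebraMap F K a)
    (hd : Function.Injective fun j : Fin 3 => (s^[j.val] : K → K)) (b : Basis (Fin 3) F K) :
    (mooreMat s b).det ≠ 0 := by
  intro h0
  obtain ⟨c, hc, hcU⟩ := Matrix.exists_vecMul_eq_zero_iff.2 h0
  let χ : Fin 3 → (K →* K) := fun j => ((s ^ j.val : K →+* K) : K →* K)
  have hχ : Function.Injective χ := fun i j h => by
    refine hd ?_
    have := congrArg (fun f : K →* K => (f : K → K)) h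
    simpa [χ, RingHom.coe_pow] using this
  have hli := (linearIndependent_monoidHom K K).comp χ hχ
  have hlin : ∀ x : K, ∑ j, c j * s^[j.val] x = 0 := by
    intro x
    conv_lhs => rw [← b.sum_repr x]
    have hit : ∀ n : ℕ, ∀ a : F, s^[n] (algebraMap F K a) = algebraMap F K a := by
      intro n a
      induction n with
      | zero => rfl
      | succ n ih => rw [Function.iterate_succ_apply', ih, hF]
    have e : ∀ j : Fin 3, s^[j.val] (∑ i, b.repr x i • b i) =
        ∑ i, algebraMap F K (b.repr x i) * s^[j.val] (b i) := by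
      intro j
      rw [← RingHom.coe_pow, map_sum]
      simp only [Algebra.smul_def, map_mul, RingHom.coe_pow, hit]
    simp only [e, Finset.mul_sum]
    rw [Finset.sum_comm]
    refine Finset.sum_eq_zero fun i _ => ?_
    have hi := congrFun hcU i
    calc ∑ j, c j * (algebraMap F K (b.repr x i) * s^[j.val] (b i))
        = algebraMap F K (b.repr x i) * ∑ j, c j * mooreMat s b j i := by
          rw [Finset.mul_sum]
          exact Finset.sum_congr rfl fun j _ => by rw [mul_left_comm]; rfl
      _ = 0 := by
          show algebraMap F K (b.repr x i) * (c ᵥ* mooreMat s b) i = 0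
          rw [hi]; simp
  refine hc (funext fun j => ?_)
  refine Fintype.linearIndependent_iff.1 hli c (funext fun x => ?_) j
  simpa [χ, Finset.sum_apply, RingHom.coe_pow] using hlin x

variable [Fintype F] [Finite K]

theorem mem_range_of_pow_card {x : K} (hx : x ^ Fintype.card F = x) :
    ∃ a : F, algebraMap F K a = x := by
  classical
  by_contra h
  push Not at h
  let f : Polynomial K := Polynomial.X ^ Fintype.card F - Polynomial.X
  have hf : f ≠ 0 := FiniteField.X_pow_card_sub_X_ne_zero K Fintype.one_lt_card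
  have hdeg : f.natDegree = Fintype.card F :=
    FiniteField.X_pow_card_sub_X_natDegree_eq K Fintype.one_lt_card
  let S : Finset K := insert x (Finset.univ.map ⟨algebraMap F K, (algebraMap F K).injective⟩)
  have hS : S.card = Fintype.card F + 1 := by
    rw [Finset.card_insert_of_notMem, Finset.card_map, Finset.card_univ]
    simpa using h
  have hroot : S.val ≤ f.roots := by
    refine Finset.val_le_iff_val_subset.2 fun y hy => ?_
    rw [Polynomial.mem_roots hf]
    rcases Finset.mem_insert.1 hy with rfl | hy
    · simp [f, hx]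
    · obtain ⟨a, -, rfl⟩ := Finset.mem_map.1 hy
      simp [f, ← map_pow, FiniteField.pow_card]
  have := (Multiset.card_le_card hroot).trans (Polynomial.card_roots' f)
  rw [hdeg] at this
  change S.card ≤ _ at this
  omega

/-- The Singer cycle data. -/
theorem exists_singer (hK : finrank F K = 3) (hq : 2 ≤ Fintype.card F) :
    ∃ (S : Matrix.SpecialLinearGroup (Fin 3) F) (u : Matrix.SpecialLinearGroup (Fin 3) K) (L : Kˣ)
      (σ : K →+* K),
      orderOf L = Fintype.card F ^ 2 + Fintype.card F + 1 ∧
      orderOf S = Fintype.card F ^ 2 + Fintype.card F + 1 ∧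
      (∀ x, σ x = x ^ Fintype.card F) ∧
      (∀ a : F, σ (algebraMap F K a) = algebraMap F K a) ∧
      u.1 * (S.1.map (algebraMap F K)) =
        Matrix.diagonal (fun j : Fin 3 => ((L ^ Fintype.card F ^ j.val : Kˣ) : K)) * u.1 ∧
      u.1.map σ = cyc3 K * u.1 := by
  classical
  set q := Fintype.card F with hqdef
  have : FiniteDimensional F K := Module.finite_of_finrank_eq_succ hK
  have hcard : Nat.card K = q ^ 3 := by
    rw [Module.natCard_eq_pow_finrank (K := F), hK, Nat.card_eq_fintype_card]
  have := Fintype.ofFinite K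
  have hKu : Nat.card Kˣ = q ^ 3 - 1 := by rw [Nat.card_units, hcard]
  obtain ⟨g, hg⟩ := IsCyclic.exists_generator (α := Kˣ)
  have hog : orderOf g = q ^ 3 - 1 := by rw [orderOf_eq_card_of_forall_mem_zpowers hg, hKu]
  have hfac : q ^ 3 - 1 = (q - 1) * (q ^ 2 + q + 1) := by
    obtain ⟨m, hm⟩ : ∃ m, q = m + 1 := ⟨q - 1, by omega⟩
    rw [hm, Nat.add_sub_cancel]
    refine Nat.sub_eq_of_eq_add ?_
    ring
  set N := q ^ 2 + q + 1 with hN
  set L := g ^ (q - 1) with hLdef
  have hL : orderOf L = N := by
    rw [hLdef, orderOf_pow' _ (by omega), hog, hfac,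
      Nat.gcd_eq_right (dvd_mul_right _ _), Nat.mul_div_cancel_left _ (by omega)]
  let σ : K →+* K := (FiniteField.frobeniusAlgEquivOfAlgebraic F K).toRingEquiv.toRingHom
  have hσ : ∀ x, σ x = x ^ q := fun x => congrFun (FiniteField.coe_frobeniusAlgEquivOfAlgebraic F K) x
  have hσF : ∀ a : F, σ (algebraMap F K a) = algebraMap F K a := fun a => by
    rw [hσ, ← map_pow, hqdef, FiniteField.pow_card]
  have hσn : ∀ (n : ℕ) (x : K), σ^[n] x = x ^ q ^ n := by
    intro n x
    induction n with
    | zero => simp
    | succ n ih => rw [Function.iterate_succ_apply', ih, hσ, ← pow_mul, pow_succ]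
  have hσ3 : ∀ x, σ (σ (σ x)) = x := fun x => by
    have := hσn 3 x
    simp only [Function.iterate_succ_apply', Function.iterate_zero, id] at this
    rw [this, ← hcard, Nat.card_eq_fintype_card, FiniteField.pow_card]
  have hdist : Function.Injective fun j : Fin 3 => (σ^[j.val] : K → K) := by
    intro i j h
    have := congrFun h (L : K)
    simp only [hσn, ← Units.val_pow_eq_pow_val] at this
    have h' : L ^ (q ^ i.val) = L ^ (q ^ j.val) := Units.ext this
    have hlt : ∀ k : Fin 3, q ^ k.val < N := by
      intro k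
      fin_cases k <;> simp only [hN, pow_zero, pow_one] <;> nlinarith
    have := pow_injOn_Iio_orderOf (by simpa [hL] using hlt i) (by simpa [hL] using hlt j) h'
    exact Fin.ext (Nat.pow_right_injective hq this)
  let b0 : Basis (Fin 3) F K := Module.finBasisOfFinrankEq F K hK
  have hd0 := moore_det_ne σ hσF hdist b0
  obtain ⟨d, hd⟩ : ∃ a : F, algebraMap F K a = (mooreMat σ b0).det := by
    refine mem_range_of_pow_card ?_
    rw [← hqdef, ← hσ, RingHom.map_det, RingHom.mapMatrix_apply, moore_map σ hσ3, Matrix.det_mul, det_cyc3,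
      one_mul]
  have hdne : d ≠ 0 := by rintro rfl; rw [map_zero] at hd; exact hd0 hd.symm
  let b : Basis (Fin 3) F K := b0.unitsSMul ![(Units.mk0 d hdne)⁻¹, 1, 1]
  have hb : mooreMat σ b = mooreMat σ b0 *
      Matrix.diagonal ![algebraMap F K d⁻¹, 1, 1] := by
    ext j i
    have hit : ∀ a : F, σ^[j.val] (algebraMap F K a) = algebraMap F K a := fun a => by
      rw [hσn, ← map_pow, hqdef, FiniteField.pow_card_pow]
    rw [Matrix.mul_diagonal]
    fin_cases i <;>
      simp [b, mooreMat, Module.Basis.unitsSMul_apply, Algebra.smul_def, Units.smul_def, ← RingHom.coe_pow] <;>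
      simp [RingHom.coe_pow, hit, mul_comm]
  have hdet : (mooreMat σ b).det = 1 := by
    rw [hb, Matrix.det_mul, ← hd, Matrix.det_diagonal, Fin.prod_univ_three]
    simp [← map_mul, hdne]
  have hnorm : (Algebra.leftMulMatrix b (L : K)).det = 1 := by
    rw [← Algebra.norm_eq_matrix_det b]
    refine (algebraMap F K).injective ?_
    rw [map_one, FiniteField.algebraMap_norm_eq_pow_sum, hK, Nat.card_eq_fintype_card,
      ← Units.val_pow_eq_pow_val, show ∑ i ∈ Finset.range 3, Fintype.card F ^ i = orderOf L by
        rw [hL, hN]; simp [Finset.sum_range_succ, ← hqdef]; ring, pow_orderOf_eq_one, Units.val_one]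
  refine ⟨⟨Algebra.leftMulMatrix b (L : K), hnorm⟩, ⟨mooreMat σ b, hdet⟩, L, σ, hL, ?_, hσ, hσF, ?_,
    moore_map σ hσ3 b⟩
  · let val : Matrix.SpecialLinearGroup (Fin 3) F →* Matrix (Fin 3) (Fin 3) F :=
      { toFun := fun x => x.1, map_one' := rfl, map_mul' := fun _ _ => rfl }
    rw [← hL, ← orderOf_units (y := L)]
    refine (orderOf_injective val (fun x y h => Subtype.ext h) _).symm.trans ?_
    exact orderOf_injective (Algebra.leftMulMatrix b).toMonoidHom (Algebra.leftMulMatrix_injective b) _
  · rw [moore_leftMul σ hσF b]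
    congr 2
    funext j
    rw [hσn, Units.val_pow_eq_pow_val, hLdef]
    simp [Units.val_pow_eq_pow_val]

end CfsgLib.G2SL3
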