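import Cfsg.Agent.Lib.G2SL3.Gen
import Cfsg.Agent.Lib.G2SL3.Hom
import Cfsg.Agent.Lib.G2SL3.RegTorus
import Cfsg.Agent.Lib.G2SL3.Singer
import Cfsg.Agent.Lib.Chev.FieldFixed

/-!
The self-centralizing cyclic subgroup of order `q² + q + 1` of `G₂(q)`.
-/

set_option autoImplicit false

namespace CfsgLib.G2SL3

open Matrix CfsgLib.Chev

/-- The exponents of the roots on the Singer torus. -/
def expo (q : ℕ) (r : Fin 12) : ℤ := coords r 0 + ((q : ℤ) - 1) * coords r 1

theorem expo_distinct {q : ℕ} (hq : 3 ≤ q) (r r' : Fin 12)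
    (h : ((q ^ 2 + q + 1 : ℕ) : ℤ) ∣ expo q r - expo q r') : r = r' := by
  rcases eq_or_lt_of_le hq with rfl | hq4
  · revert h
    revert r r'
    decide
  · have hN : (4 * (q : ℤ) + 2) < ((q ^ 2 + q + 1 : ℕ) : ℤ) := by push_cast; nlinarith
    have hb : ∀ s, |expo q s| ≤ 2 * (q : ℤ) + 1 := by
      intro s
      rw [abs_le]
      fin_cases s <;> simp [expo, coords] <;> omega
    have h0 : expo q r - expo q r' = 0 := Int.eq_zero_of_abs_lt_dvd h
      (lt_of_le_of_lt ((abs_sub _ _).trans (add_le_add (hb r) (hb r'))) (by linarith))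
    revert h0
    fin_cases r <;> fin_cases r' <;> simp [expo, coords] <;> omega

theorem expo_ne {q : ℕ} (hq : 3 ≤ q) (r : Fin 12) :
    ¬ ((q ^ 2 + q + 1 : ℕ) : ℤ) ∣ expo q r := by
  intro h
  rcases eq_or_lt_of_le hq with rfl | hq4
  · revert h
    revert r
    decide
  · have hN : (2 * (q : ℤ) + 1) < ((q ^ 2 + q + 1 : ℕ) : ℤ) := by push_cast; nlinarith
    have hb : |expo q r| ≤ 2 * (q : ℤ) + 1 := by
      rw [abs_le]
      fin_cases r <;> simp [expo, coords] <;> omega
    have h0 := Int.eq_zero_of_abs_lt_dvd h (lt_of_le_of_lt hb hN)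
    revert h0
    fin_cases r <;> simp [expo, coords] <;> omega

theorem torus_mul_entry {D : Cfsg.Lie.ChevalleyDatum} (Φ : Chev D) {K : Type*} [Field K]
    (c : Fin D.rank → Kˣ) (g : GL D.Idx K) (r r' : Fin D.nroots) :
    (Φ.toAlg.torus c * g).1 (Sum.inr r) (Sum.inr r') = (Φ.toSys.chi c r : K) * g.1 (Sum.inr r) (Sum.inr r') := by
  rw [Units.val_mul, Alg.torus_val, Sys.torusMat, Matrix.diagonal_mul]
  rfl

theorem mul_torus_entry {D : Cfsg.Lie.ChevalleyDatum} (Φ : Chev D) {K : Type*} [Field K]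
    (c : Fin D.rank → Kˣ) (g : GL D.Idx K) (r r' : Fin D.nroots) :
    (g * Φ.toAlg.torus c).1 (Sum.inr r) (Sum.inr r') = g.1 (Sum.inr r) (Sum.inr r') * (Φ.toSys.chi c r' : K) := by
  rw [Units.val_mul, Alg.torus_val, Sys.torusMat, Matrix.mul_diagonal]
  rfl

theorem chi_map {D : Cfsg.Lie.ChevalleyDatum} (Φ : Chev D) {K : Type*} [Field K] (f : K →+* K)
    (c : Fin D.rank → Kˣ) (r : Fin D.nroots) :
    Φ.toSys.chi (fun i => Units.map f.toMonoidHom (c i)) r = Units.map f.toMonoidHom (Φ.toSys.chi c r) := by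
  rw [Sys.chi, Sys.chi, map_prod]
  simp only [map_zpow]

theorem chi_eps (Φ : Chev Cfsg.Lie.chevG2) {R : Type*} [CommRing R] (c : Fin 2 → Rˣ) :
    Φ.toSys.chi c (eps 0) = c 0 ∧ Φ.toSys.chi c (eps 1) = c 0 * c 1 ∧
      Φ.toSys.chi c (eps 2) = (c 0 ^ 2 * c 1)⁻¹ := by
  refine ⟨(chi_eq Φ c 7).trans ?_, (chi_eq Φ c 8).trans ?_, (chi_eq Φ c 2).trans ?_⟩ <;>
    simp [coords, _root_.zpow_neg, mul_comm, zpow_ofNat]

variable {F : Type*} [Field F] [Fintype F]

/-- The main statement. -/
theorem exists_selfcentralizing (q : ℕ) (hF : Fintype.card F = q) (hq : 3 ≤ q) :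
    ∃ H : Subgroup ↥(DG.group F), IsCyclic ↥H ∧ Nat.card ↥H = q ^ 2 + q + 1 ∧
      Subgroup.centralizer (H : Set ↥(DG.group F)) = H := by
  classical
  obtain ⟨p, hp⟩ := CharP.exists F
  have : Fact p.Prime := ⟨CharP.char_is_prime F p⟩
  have : NeZero (3 : ℕ) := ⟨by norm_num⟩
  let K := FiniteField.Extension F p 3
  obtain ⟨S, u, L, σ, hL, hS, hσ, hσF, hud, hum⟩ :=
    exists_singer (F := F) (K := K) (FiniteField.finrank_extension F p 3) (by omega)
  rw [hF] at hL hS hσ hud
  set N := q ^ 2 + q + 1 with hN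
  set Φ := CfsgLib.Chev.chevG2
  let h : ↥(DG.group F) := ⟨rep F S, rep_mem_group S⟩
  have hh : orderOf h = N := by
    rw [← orderOf_injective (DG.group F).subtype Subtype.coe_injective h]
    exact (orderOf_injective (rep F) rep_injective S).trans hS
  refine ⟨Subgroup.zpowers h, inferInstance, by rw [Nat.card_zpowers, hh], ?_⟩
  let ι := Matrix.GeneralLinearGroup.map (n := DG.Idx) (algebraMap F K)
  let s : Matrix.SpecialLinearGroup (Fin 3) K := Matrix.SpecialLinearGroup.map (algebraMap F K) S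
  let D : Fin 3 → Kˣ := fun j => L ^ q ^ j.val
  have hDdet : D 0 * D 1 * D 2 = 1 := by
    show L ^ q ^ 0 * L ^ q ^ 1 * L ^ q ^ 2 = 1
    rw [← pow_add, ← pow_add, show q ^ 0 + q ^ 1 + q ^ 2 = orderOf L by rw [hL, hN]; ring,
      pow_orderOf_eq_one]
  let dd : Matrix.SpecialLinearGroup (Fin 3) K :=
    ⟨Matrix.diagonal fun j => (D j : K), by
      rw [Matrix.det_diagonal, Fin.prod_univ_three, ← Units.val_mul, ← Units.val_mul, hDdet, Units.val_one]⟩
  let pp : Matrix.SpecialLinearGroup (Fin 3) K := ⟨cyc3 K, det_cyc3⟩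
  have hus : u * s = dd * u := Subtype.ext hud
  have hup : Matrix.SpecialLinearGroup.map σ u = pp * u := Subtype.ext hum
  let c0 : Fin 2 → Kˣ := ![D 0, (D 0)⁻¹ * D 1]
  have hdd : rep K dd = Φ.toAlg.torus c0 := rep_diag Φ dd D rfl hDdet
  have hchi : ∀ r : Fin 12, Φ.toSys.chi c0 r = L ^ expo q r := by
    intro r
    rw [chi_eq]
    simp only [c0, D, Matrix.cons_val_zero, Matrix.cons_val_one, Fin.val_zero, Fin.val_one, pow_zero, pow_one]
    rw [← _root_.zpow_natCast L q, ← _root_.zpow_neg_one, ← _root_.zpow_add, ← _root_.zpow_mul, ← _root_.zpow_add,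
      expo]
    congr 1
  have hdvd : ∀ x y : ℤ, L ^ x = L ^ y → (N : ℤ) ∣ x - y := by
    intro x y e
    rw [← hL, orderOf_dvd_iff_zpow_eq_one, _root_.zpow_sub, e, mul_inv_cancel]
  have hreg : ∀ r, Φ.toSys.chi c0 r ≠ 1 := by
    intro r e
    refine expo_ne hq r ?_
    have := hdvd (expo q r) 0 ((hchi r).symm.trans (e.trans (zpow_zero L).symm))
    rwa [sub_zero] at this
  have hinj : Function.Injective (Φ.toSys.chi c0) := by
    intro r r' e
    exact expo_distinct hq r r' (hdvd _ _ ((hchi r).symm.trans (e.trans (hchi r'))))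
  -- conjugating a centralizing element into the torus
  let φ : ↥(DG.group F) → GL DG.Idx K := fun c => rep K u * ι c.1 * (rep K u)⁻¹
  have hφinj : Function.Injective φ := by
    intro a b e
    have e' : ι a.1 = ι b.1 := mul_left_cancel (mul_right_cancel e)
    refine Subtype.ext (Units.ext ?_)
    exact Matrix.map_injective (algebraMap F K).injective (congrArg Units.val e')
  have key : ∀ c ∈ Subgroup.centralizer ({h} : Set ↥(DG.group F)),
      ∃ e : Fin 2 → Kˣ, φ c = Φ.toAlg.torus e ∧ e 0 ^ N = 1 ∧ e 1 = (e 0)⁻¹ * e 0 ^ q := by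
    intro c hc
    rw [Subgroup.mem_centralizer_singleton_iff] at hc
    have hc' : ι c.1 * rep K s = rep K s * ι c.1 := by
      rw [← rep_map, ← map_mul, ← map_mul]
      exact congrArg ι (congrArg Subtype.val hc)
    have hmem : φ c ∈ DG.group K :=
      mul_mem (mul_mem (rep_mem_group u) (Φ.map_mem_group _ c.2)) (inv_mem (rep_mem_group u))
    have hcomm : Commute (Φ.toAlg.torus c0) (φ c) := by
      have e1 : rep K dd * rep K u = rep K u * rep K s := by rw [← map_mul, ← map_mul, hus]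
      have e2 : rep K dd = rep K u * rep K s * (rep K u)⁻¹ := eq_mul_inv_of_mul_eq e1
      rw [← hdd, e2]
      show _ * (rep K u * ι c.1 * (rep K u)⁻¹) = (rep K u * ι c.1 * (rep K u)⁻¹) * _
      calc rep K u * rep K s * (rep K u)⁻¹ * (rep K u * ι c.1 * (rep K u)⁻¹)
          = rep K u * (rep K s * ι c.1) * (rep K u)⁻¹ := by group
        _ = rep K u * (ι c.1 * rep K s) * (rep K u)⁻¹ := by rw [hc']
        _ = _ := by group
    obtain ⟨e, he⟩ : ∃ e : Fin 2 → Kˣ, φ c = Φ.toAlg.torus e := Φ.exists_torus_of_mem_H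
      (mem_H_of_commute_regular Φ hreg hinj (torus_mem_H_G2 Φ c0) hmem hcomm)
    have hgal : Matrix.GeneralLinearGroup.map σ (φ c) * rep K pp = rep K pp * φ c := by
      have e3 : Matrix.GeneralLinearGroup.map σ (rep K u) = rep K pp * rep K u := by
        rw [rep_map, hup, map_mul]
      have e4 : Matrix.GeneralLinearGroup.map σ (ι c.1) = ι c.1 :=
        Units.ext (Matrix.ext fun x y => hσF (c.1.1 x y))
      show Matrix.GeneralLinearGroup.map σ (rep K u * ι c.1 * (rep K u)⁻¹) * _ = _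
      rw [map_mul, map_mul, map_inv, e3, e4]
      show _ = rep K pp * (rep K u * ι c.1 * (rep K u)⁻¹)
      group
    rw [he] at hgal
    erw [Φ.map_torus σ e] at hgal
    have hstep : ∀ a a' : Fin 3, cyc3 K a a' = 1 →
        Φ.toSys.chi e (eps a') = (Φ.toSys.chi e (eps a)) ^ q := by
      intro a a' h1
      have := congrArg (fun g : GL DG.Idx K => g.1 (Sum.inr (eps a)) (Sum.inr (eps a'))) hgal
      replace this := (torus_mul_entry Φ _ (rep K pp) (eps a) (eps a')).symm.trans
        (this.trans (mul_torus_entry Φ e (rep K pp) (eps a) (eps a')))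
      rw [rep_eps] at this
      change _ * cyc3 K a a' = cyc3 K a a' * _ at this
      rw [h1, mul_one, one_mul] at this
      refine Units.ext ?_
      rw [← this, Units.val_pow_eq_pow_val, ← hσ]
      exact congrArg Units.val (chi_map Φ σ e (eps a))
    have s1 := hstep 0 1 (by simp [cyc3])
    have s2 := hstep 1 2 (by simp [cyc3])
    obtain ⟨c0', c1', c2'⟩ := chi_eps Φ e
    rw [c0', c1'] at s1
    rw [c1', c2', s1] at s2
    refine ⟨e, he, ?_, ?_⟩
    · have e5 : e 0 ^ 2 * e 1 = e 0 * e 0 ^ q := by rw [← s1, pow_two, mul_assoc]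
      rw [e5, ← pow_mul, ← pow_two] at s2
      rw [hN, show q ^ 2 + q + 1 = (1 + q) + q ^ 2 by ring, pow_add, pow_add, pow_one, ← s2,
        mul_inv_cancel]
    · rw [← s1, inv_mul_cancel_left]
  -- counting
  have hle : Subgroup.zpowers h ≤ Subgroup.centralizer ({h} : Set ↥(DG.group F)) := by
    rw [Subgroup.zpowers_le, Subgroup.mem_centralizer_singleton_iff]
  have hcard : Nat.card (Subgroup.centralizer ({h} : Set ↥(DG.group F))) ≤ N := by
    let f : Subgroup.centralizer ({h} : Set ↥(DG.group F)) → {x : K // x ∈ Polynomial.nthRootsFinset N (1 : K)} :=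
      fun c => ⟨((key c c.2).choose 0 : Kˣ), by
        rw [Polynomial.mem_nthRootsFinset (by omega), ← Units.val_pow_eq_pow_val,
          (key c c.2).choose_spec.2.1, Units.val_one]⟩
    have hf : Function.Injective f := by
      intro a b e
      obtain ⟨a1, -, a3⟩ := (key a a.2).choose_spec
      obtain ⟨b1, -, b3⟩ := (key b b.2).choose_spec
      have e0 : (key a a.2).choose 0 = (key b b.2).choose 0 := Units.ext (congrArg Subtype.val e)
      refine Subtype.ext (hφinj ?_)
      rw [a1, b1]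
      refine congrArg _ (funext fun i => ?_)
      revert i
      show ∀ i : Fin 2, _
      intro i
      fin_cases i
      · exact e0
      · show (key a a.2).choose 1 = (key b b.2).choose 1
        rw [a3, b3, e0]
    refine (Nat.card_le_card_of_injective f hf).trans ?_
    rw [Nat.card_eq_finsetCard, Polynomial.nthRootsFinset_def]
    exact (Multiset.toFinset_card_le _).trans (Polynomial.card_nthRoots _ _)
  have heq := Subgroup.eq_of_le_of_card_ge hle (by rw [Nat.card_zpowers, hh]; exact hcard)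
  refine le_antisymm ((Subgroup.centralizer_le ?_).trans heq.ge) ?_
  · simp [Subgroup.mem_zpowers]
  · exact Subgroup.le_centralizer _

end CfsgLib.G2SL3
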