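import Mathlib
import Cfsg.Prelude.Def_ChevG2

/-!
The fourteen-dimensional representation `sl₃ ⊕ V ⊕ V*` of `SL₃` inside the Chevalley group of type G2.
-/

set_option autoImplicit false

namespace CfsgLib.G2SL3

open Matrix

abbrev DG : Cfsg.Lie.ChevalleyDatum := Cfsg.Lie.chevG2

/-- The roots `ε_a`. -/
def eps : Fin 3 → Fin DG.nroots := ![⟨7, by decide⟩, ⟨8, by decide⟩, ⟨2, by decide⟩]

/-- The roots `-ε_a`. -/
def neps : Fin 3 → Fin DG.nroots := ![⟨4, by decide⟩, ⟨3, by decide⟩, ⟨9, by decide⟩]

/-- The roots `ε_a - ε_b`. -/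
def lng : Fin 3 → Fin 3 → Fin DG.nroots :=
  ![![⟨0, by decide⟩, ⟨5, by decide⟩, ⟨10, by decide⟩],
    ![⟨6, by decide⟩, ⟨0, by decide⟩, ⟨11, by decide⟩],
    ![⟨1, by decide⟩, ⟨0, by decide⟩, ⟨0, by decide⟩]]

def h0 : Fin DG.rank := ⟨0, by decide⟩
def h1 : Fin DG.rank := ⟨1, by decide⟩

variable {F : Type*} [Field F]

/-- The part in the natural module. -/
def getV (v : DG.Idx → F) : Fin 3 → F := fun a => v (.inr (eps a))

/-- The part in the dual module. -/
def getW (v : DG.Idx → F) : Fin 3 → F := fun a => v (.inr (neps a))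

/-- The adjoint part. -/
def getM (v : DG.Idx → F) : Matrix (Fin 3) (Fin 3) F :=
  !![2 * v (.inl h0) - v (.inl h1), v (.inr (lng 0 1)), v (.inr (lng 0 2));
     v (.inr (lng 1 0)), v (.inl h1) - v (.inl h0), v (.inr (lng 1 2));
     v (.inr (lng 2 0)), v (.inr (lng 2 1)), -v (.inl h0)]

/-- Putting the three parts together. -/
def put (V W : Fin 3 → F) (M : Matrix (Fin 3) (Fin 3) F) : DG.Idx → F :=
  Sum.elim (fun i => if i.val = 0 then -M 2 2 else M 1 1 - M 2 2)
    (fun r => (![M 2 1, M 2 0, V 2, W 1, W 0, M 0 1, M 1 0, V 0, V 1, W 2, M 0 2, M 1 2] : Fin 12 → F)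
      (Fin.cast (by decide) r))

theorem getV_put (V W : Fin 3 → F) (M : Matrix (Fin 3) (Fin 3) F) : getV (put V W M) = V := by
  funext a; fin_cases a <;> rfl

theorem getW_put (V W : Fin 3 → F) (M : Matrix (Fin 3) (Fin 3) F) : getW (put V W M) = W := by
  funext a; fin_cases a <;> rfl

theorem getM_put (V W : Fin 3 → F) (M : Matrix (Fin 3) (Fin 3) F) (h : M.trace = 0) :
    getM (put V W M) = M := by
  rw [Matrix.trace_fin_three] at h
  ext a b
  fin_cases a <;> fin_cases b <;> simp [getM, put, lng, h0, h1]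
  all_goals linear_combination -h

theorem put_get (v : DG.Idx → F) : put (getV v) (getW v) (getM v) = v := by
  funext x
  rcases x with i | r
  · have : i.val = 0 ∨ i.val = 1 := by have := i.2; have : DG.rank = 2 := by decide
                                       omega
    rcases this with h | h
    · rw [show i = h0 from Fin.ext h]; simp [getM, put, h0]
    · rw [show i = h1 from Fin.ext h]; simp [getM, put, h1, h0]
  · revert r
    show ∀ r : Fin 12, _
    intro r
    fin_cases r <;> rfl

theorem trace_getM (v : DG.Idx → F) : (getM v).trace = 0 := by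
  rw [Matrix.trace_fin_three]; simp [getM]; ring

/-- The action. -/
def act (g g' : Matrix (Fin 3) (Fin 3) F) : (DG.Idx → F) →ₗ[F] (DG.Idx → F) where
  toFun v := put (g *ᵥ getV v) (g'ᵀ *ᵥ getW v) (g * getM v * g')
  map_add' v w := by
    have e1 : getV (v + w) = getV v + getV w := rfl
    have e2 : getW (v + w) = getW v + getW w := rfl
    have e3 : getM (v + w) = getM v + getM w := by
      ext a b; fin_cases a <;> fin_cases b <;> simp [getM] <;> ring
    rw [e1, e2, e3, Matrix.mulVec_add, Matrix.mulVec_add, Matrix.mul_add, Matrix.add_mul]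
    funext x
    rcases x with i | r
    · simp [put]; split <;> ring
    · revert r
      show ∀ r : Fin 12, _
      intro r
      fin_cases r <;> first | rfl | simp [put, Fin.cast]
  map_smul' c v := by
    have e1 : getV (c • v) = c • getV v := rfl
    have e2 : getW (c • v) = c • getW v := rfl
    have e3 : getM (c • v) = c • getM v := by
      ext a b; fin_cases a <;> fin_cases b <;> simp [getM] <;> ring
    rw [e1, e2, e3, Matrix.mulVec_smul, Matrix.mulVec_smul, Matrix.mul_smul, Matrix.smul_mul]
    funext x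
    rcases x with i | r
    · simp [put]; split <;> ring
    · revert r
      show ∀ r : Fin 12, _
      intro r
      fin_cases r <;> first | rfl | simp [put, Fin.cast]

theorem act_one : act (1 : Matrix (Fin 3) (Fin 3) F) 1 = LinearMap.id :=
  LinearMap.ext fun v => by simp [act, put_get]

theorem act_mul (g g' h h' : Matrix (Fin 3) (Fin 3) F) (hh : h' * h = 1) :
    act (g * h) (h' * g') = (act g g').comp (act h h') := by
  refine LinearMap.ext fun v => ?_
  have ht : (h * getM v * h').trace = 0 := by
    rw [Matrix.trace_mul_cycle, hh, Matrix.one_mul, trace_getM]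
  show put _ _ _ = put _ _ _
  simp only [LinearMap.comp_apply, act, LinearMap.coe_mk, AddHom.coe_mk, getV_put, getW_put, getM_put _ _ _ ht]
  simp only [Matrix.mulVec_mulVec, Matrix.transpose_mul, Matrix.mul_assoc]

open scoped MatrixGroups

/-- The representation. -/
noncomputable def rep (F : Type*) [Field F] : Matrix.SpecialLinearGroup (Fin 3) F →* GL DG.Idx F :=
  MonoidHom.toHomUnits
    { toFun := fun g => LinearMap.toMatrix' (act g.1 (g⁻¹).1)
      map_one' := by rw [inv_one, Matrix.SpecialLinearGroup.coe_one, act_one, LinearMap.toMatrix'_id]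
      map_mul' := fun g h => by
        rw [_root_.mul_inv_rev, Matrix.SpecialLinearGroup.coe_mul, Matrix.SpecialLinearGroup.coe_mul,
          act_mul _ _ _ _ (by rw [← Matrix.SpecialLinearGroup.coe_mul, inv_mul_cancel,
            Matrix.SpecialLinearGroup.coe_one]), LinearMap.toMatrix'_comp] }

theorem rep_apply (g : Matrix.SpecialLinearGroup (Fin 3) F) :
    (rep F g).1 = LinearMap.toMatrix' (act g.1 (g⁻¹).1) := rfl

theorem xhh (D : Cfsg.Lie.ChevalleyDatum) (r : Fin D.nroots) (t : F) (i' i : Fin D.rank) :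
    D.xMat F r t (.inl i') (.inl i) = if i' = i then 1 else 0 := rfl
theorem xrh (D : Cfsg.Lie.ChevalleyDatum) (r u : Fin D.nroots) (t : F) (i : Fin D.rank) :
    D.xMat F r t (.inr u) (.inl i) = if u = r then - (((D.cartanSR.getD i.val #[]).getD r.val 0 : ℤ) : F) * t else 0 := rfl
theorem xhr (D : Cfsg.Lie.ChevalleyDatum) (r s : Fin D.nroots) (t : F) (i : Fin D.rank) :
    D.xMat F r t (.inl i) (.inr s) = if s = r then 0 else if s.val = D.negIdx.getD r.val 0 then
      (((D.coroot.getD r.val #[]).getD i.val 0 : ℤ) : F) * t else 0 := by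
  unfold Cfsg.Lie.ChevalleyDatum.xMat; show (if s = r then _ else _ : _) = _; split_ifs <;> subst_vars <;> simp [*]
theorem xrr (D : Cfsg.Lie.ChevalleyDatum) (r s u : Fin D.nroots) (t : F) :
    D.xMat F r t (.inr u) (.inr s) = if s = r then (if u = r then 1 else 0) else
      if s.val = D.negIdx.getD r.val 0 then (if u = s then 1 else if u = r then -(t ^ 2) else 0)
      else (if u = s then 1 else 0) + ((D.chainCoeff r.val s.val u.val).map fun km => ((km.2 : ℤ) : F) * t ^ km.1).sum := by
  unfold Cfsg.Lie.ChevalleyDatum.xMat; show (if s = r then _ else _ : _) = _; split_ifs <;> subst_vars <;> simp [*]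

/-- The evaluation tactic. -/
theorem chain_eq : DG.chain = Cfsg.Lie.chevG2Chain := rfl
theorem neg_eq : DG.negIdx = Cfsg.Lie.chevG2NegIdx := rfl
theorem cor_eq : DG.coroot = Cfsg.Lie.chevG2Coroot := rfl
theorem car_eq : DG.cartanSR = Cfsg.Lie.chevG2CartanSR := rfl

end CfsgLib.G2SL3
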